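import Mathlib
import Cfsg.Agent.TcData.SD5c.Common

set_option autoImplicit false
set_option Elab.async false
set_option maxRecDepth 100000
set_option linter.all false

namespace Cfsg.Agent.TcData.SD5c.I16

open Cfsg.Spor Cfsg.Agent.Lib.TcFacts Cfsg.Agent.Lib.TcBits Cfsg.Agent.Lib.TcPres Cfsg.Agent.Lib.SchurDefs2.D5c Cfsg.Agent.TcData.SD5c

/-- The generators of the subgroup. -/
abbrev SS : Set (FreeGroup Gen) := {c, d, e, f}

/-- The subgroup. -/
abbrev HH : Subgroup (PresentedGroup RR) := (Subgroup.closure SS).map (PresentedGroup.mk RR)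

/-- Long generators of the subgroup. -/
noncomputable def macros : List (FreeGroup Gen) := []

/-- The relators, as words in letters. -/
def Rels : List (List ℕ) := [
  [0, 0],
  [0, 1, 0, 1, 0, 1],
  [0, 2, 0, 2],
  [0, 3, 0, 3],
  [0, 4, 0, 4],
  [1, 0, 1, 0, 1, 0],
  [1, 1],
  [1, 2, 1, 2, 1, 2],
  [1, 3, 1, 3],
  [1, 4, 1, 4, 1, 4],
  [2, 0, 2, 0],
  [2, 1, 2, 1, 2, 1],
  [2, 2],
  [2, 3, 2, 3, 2, 3],
  [2, 4, 2, 4],
  [3, 0, 3, 0],
  [3, 1, 3, 1],
  [3, 2, 3, 2, 3, 2],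
  [3, 3],
  [3, 4, 3, 4],
  [4, 0, 4, 0],
  [4, 1, 4, 1, 4, 1],
  [4, 2, 4, 2],
  [4, 3, 4, 3],
  [4, 4],
  [0, 0],
  [0, 0],
  [1, 1],
  [1, 1],
  [2, 2],
  [2, 2],
  [3, 3],
  [3, 3],
  [4, 4],
  [4, 4]]

/-- The table. -/
noncomputable def T : Tr := (.node (.node (.node (.node (.leaf (nat_lit 0x3880082521f24ef9167c733a58200064001041132295d0c8d8c07c21b800a8002076253e2ae235cf70d7836801480041000e7396366a9c398de0c0022000818890fe2d6845b3c2d90d6004300103a0356450d40c5d24adba8006600205544a68994cd2bcca4f73800c40040c00b560524b21118c8ea8001580081050e76253f339e91d4252002200101b799281261a4420419814003400202cf29c01ca34655c53493000600040498422b21701882883d230008800806a0630e326028b3087008000c00100610449442082140187188000000200a0104084184208210210800000000000000000000000000000)) (.leaf (nat_lit 0x0))) (.node (.leaf (nat_lit 0x0)) (.leaf (nat_lit 0x0)))) (.node (.node (.leaf (nat_lit 0x0)) (.leaf (nat_lit 0x0))) (.node (.leaf (nat_lit 0x0)) (.leaf (nat_lit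 0x0))))) (.node (.node (.node (.leaf (nat_lit 0x1e0004141909eb84ed426aa1312f)) (.leaf (nat_lit 0x0))) (.node (.leaf (nat_lit 0x0)) (.leaf (nat_lit 0x0)))) (.node (.node (.leaf (nat_lit 0x0)) (.leaf (nat_lit 0x0))) (.node (.leaf (nat_lit 0x0)) (.leaf (nat_lit 0x0))))))

/-- The words. -/
noncomputable def WT : Tr := (.node (.node (.node (.node (.node (.leaf (nat_lit 0x2d)) (.leaf (nat_lit 0x8a2))) (.node (.leaf (nat_lit 0xa28a)) (.leaf (nat_lit 0x2cb)))) (.node (.node (.leaf (nat_lit 0x12)) (.leaf (nat_lit 0x134d3))) (.node (.leaf (nat_lit 0x1a69a)) (.leaf (nat_lit 0x0))))) (.node (.node (.node (.leaf (nat_lit 0xaeb)) (.leaf (nat_lit 0x965))) (.node (.leaf (nat_lit 0x34d)) (.leaf (nat_lit 0x0)))) (.node (.node (.leaf (nat_lit 0x15555)) (.leaf (nat_lit 0x2aaaa))) (.node (.leaf (nat_lit 0x659)) (.leaf (nat_lit 0x0)))))) (.node (.node (.node (.node (.leaf (nat_lit 0xa69)) (.leaf (nat_lit 0x238e3))) (.node (.leaf (nat_lit 0x30c)) (.leaf (nat_lit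 0x0)))) (.node (.node (.leaf (nat_lit 0x514)) (.leaf (nat_lit 0x861))) (.node (.leaf (nat_lit 0x75d)) (.leaf (nat_lit 0x0))))) (.node (.node (.node (.leaf (nat_lit 0xb2c)) (.leaf (nat_lit 0x11451))) (.node (.leaf (nat_lit 0x1b)) (.leaf (nat_lit 0x0)))) (.node (.node (.leaf (nat_lit 0x9)) (.leaf (nat_lit 0x1c71c))) (.node (.leaf (nat_lit 0x24)) (.leaf (nat_lit 0x0)))))))

/-- Side data. -/
noncomputable def ST : Tr := (.leaf (nat_lit 0x0))

/-- Hints for the words. -/
noncomputable def HT : Tr := (.node (.node (.node (.node (.node (.leaf (nat_lit 0x18)) (.leaf (nat_lit 0x8))) (.node (.leaf (nat_lit 0x1001)) (.leaf (nat_lit 0x1002)))) (.node (.node (.leaf (nat_lit 0x6)) (.leaf (nat_lit 0x1007))) (.node (.leaf (nat_lit 0x7)) (.leaf (nat_lit 0x0))))) (.node (.node (.node (.leaf (nat_lit 0xe)) (.leaf (nat_lit 0x1013))) (.node (.leaf (nat_lit 0x1004)) (.leaf (nat_lit 0x0)))) (.node (.node (.leaf (nat_lit 0x1009)) (.leaf (nat_lit 0x9))) (.node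 (.leaf (nat_lit 0x2)) (.leaf (nat_lit 0x0)))))) (.node (.node (.node (.node (.leaf (nat_lit 0x4)) (.leaf (nat_lit 0xd))) (.node (.leaf (nat_lit 0x1003)) (.leaf (nat_lit 0x0)))) (.node (.node (.leaf (nat_lit 0x1008)) (.leaf (nat_lit 0x3))) (.node (.leaf (nat_lit 0x100e)) (.leaf (nat_lit 0x0))))) (.node (.node (.node (.leaf (nat_lit 0x13)) (.leaf (nat_lit 0x1))) (.node (.leaf (nat_lit 0xc)) (.leaf (nat_lit 0x0)))) (.node (.node (.leaf (nat_lit 0x0)) (.leaf (nat_lit 0x100d))) (.node (.leaf (nat_lit 0x12)) (.leaf (nat_lit 0x0)))))))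

/-- An entry of the table. -/
noncomputable def ent (u a : ℕ) : ℕ :=
  Nat.land
    (Nat.shiftRight
      (Nat.rec (motive := fun _ => ℕ) (Tr.get T 0) (fun m _ => Tr.get T (Nat.succ m))
        (Nat.shiftRight u 4))
      (Nat.add (Nat.mul (Nat.land u 15) 119) (Nat.mul a 17)))
    131071

/-- The parent of a label. -/
noncomputable def pa (v : ℕ) : ℕ := ent v 6

/-- A word. -/
noncomputable def wd (k : ℕ) : ℕ := Tr.get WT k

/-- Side data. -/
noncomputable def side (k : ℕ) : ℕ :=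
  Nat.land
    (Nat.shiftRight
      (Nat.rec (motive := fun _ => ℕ) (Tr.get ST 0) (fun m _ => Tr.get ST (Nat.succ m))
        (Nat.shiftRight k 5))
      (Nat.mul (Nat.land k 31) 14))
    16383

/-- A hint. -/
noncomputable def hint (k : ℕ) : ℕ := Tr.get HT k

/-- The letters of the subgroup. -/
def baseL : List ℕ := [0, 1, 2, 3]

/-- Is a letter in the subgroup. -/
noncomputable def base (a : ℕ) : Bool := baseL.contains a

/-- The check of a row. -/
noncomputable def F : ℕ → Bool :=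
  rowF ent pa wd side base 5 31 5 10 255 3 7 8 6 31 25 32 128

/-- Being alive. -/
noncomputable def al : ℕ → Bool := aliveB ent 5 32

end Cfsg.Agent.TcData.SD5c.I16
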